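import Cfsg.Agent.R2.Spec.F1.DuelEx
import Cfsg.Agent.R2.Spec.F1.CEven

/-!
# S3435, assembly (helper21): cocliques and a prime nonadjacent to `2` (`L` classical, rank at least 5, `p` odd)
-/

set_option autoImplicit false
set_option linter.unusedSectionVars false
set_option linter.unusedVariables false

namespace Cfsg.Agent.R2.Spec.Asm

open Subgroup Cfsg
open Cfsg.Agent.H426.LieFam Cfsg.Agent.R2.Spec Cfsg.Agent.R2.Spec.P1 Cfsg.Agent.R2.Spec.F1
open Cfsg.Agent.H420.QR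
open Cfsg.Agent.R2.Spec.E (PairOK)

universe u w

/-- three big classes -/
theorem three_big {t : Fam} (ht : Classical t) (hn : 5 ≤ rk t) :
    ∃ i j k, Big t i ∧ Big t j ∧ Big t k ∧ i ≠ j ∧ i ≠ k ∧ j ≠ k := by
  cases t with
  | psl n =>
    change 5 ≤ n at hn
    exact ⟨n, n - 1, n - 2, ⟨by omega, show n ≤ n by omega, show n < 2 * n by omega⟩,
      ⟨by omega, show n - 1 ≤ n by omega, show n < 2 * (n - 1) by omega⟩,
      ⟨by omega, show n - 2 ≤ n by omega, show n < 2 * (n - 2) by omega⟩, by omega, by omega, by omega⟩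
  | psu n =>
    change 5 ≤ n at hn
    exact ⟨n, n - 1, n - 2, ⟨by omega, show n ≤ n by omega, show n < 2 * n by omega⟩,
      ⟨by omega, show n - 1 ≤ n by omega, show n < 2 * (n - 1) by omega⟩,
      ⟨by omega, show n - 2 ≤ n by omega, show n < 2 * (n - 2) by omega⟩, by omega, by omega, by omega⟩
  | psp n =>
    change 5 ≤ n at hn
    have e0 := eta_two_mul' n
    have e1 := eta_two_mul' (n - 1)
    have e2 := eta_two_mul' (n - 2)
    exact ⟨2 * n, 2 * (n - 1), 2 * (n - 2), ⟨by omega, show eta (2 * n) ≤ n by omega, show n < 2 * eta (2 * n) by omega⟩,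
      ⟨by omega, show eta (2 * (n - 1)) ≤ n by omega, show n < 2 * eta (2 * (n - 1)) by omega⟩,
      ⟨by omega, show eta (2 * (n - 2)) ≤ n by omega, show n < 2 * eta (2 * (n - 2)) by omega⟩,
      by omega, by omega, by omega⟩
  | oodd n =>
    change 5 ≤ n at hn
    have e0 := eta_two_mul' n
    have e1 := eta_two_mul' (n - 1)
    have e2 := eta_two_mul' (n - 2)
    exact ⟨2 * n, 2 * (n - 1), 2 * (n - 2), ⟨by omega, show eta (2 * n) ≤ n by omega, show n < 2 * eta (2 * n) by omega⟩,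
      ⟨by omega, show eta (2 * (n - 1)) ≤ n by omega, show n < 2 * eta (2 * (n - 1)) by omega⟩,
      ⟨by omega, show eta (2 * (n - 2)) ≤ n by omega, show n < 2 * eta (2 * (n - 2)) by omega⟩,
      by omega, by omega, by omega⟩
  | oplus n =>
    change 5 ≤ n at hn
    have e1 := eta_two_mul' (n - 1)
    have e2 := eta_two_mul' (n - 2)
    rcases Nat.mod_two_eq_zero_or_one n with h | h
    · have e3 : eta (n - 1) = n - 1 := eta_odd (by omega)
      exact ⟨n - 1, 2 * (n - 1), 2 * (n - 2), ⟨by omega, Or.inl (by omega), show n < 2 * eta (n - 1) by omega⟩,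
        ⟨by omega, Or.inl (by omega), show n < 2 * eta (2 * (n - 1)) by omega⟩,
        ⟨by omega, Or.inl (by omega), show n < 2 * eta (2 * (n - 2)) by omega⟩, by omega, by omega, by omega⟩
    · have e3 : eta n = n := eta_odd h
      exact ⟨n, 2 * (n - 1), 2 * (n - 2), ⟨by omega, Or.inr ⟨rfl, h⟩, show n < 2 * eta n by omega⟩,
        ⟨by omega, Or.inl (by omega), show n < 2 * eta (2 * (n - 1)) by omega⟩,
        ⟨by omega, Or.inl (by omega), show n < 2 * eta (2 * (n - 2)) by omega⟩, by omega, by omega, by omega⟩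
  | ominus n =>
    change 5 ≤ n at hn
    have e0 := eta_two_mul' n
    have e1 := eta_two_mul' (n - 1)
    have e2 := eta_two_mul' (n - 2)
    exact ⟨2 * n, 2 * (n - 1), 2 * (n - 2), ⟨by omega, Or.inr rfl, show n < 2 * eta (2 * n) by omega⟩,
      ⟨by omega, Or.inl (by omega), show n < 2 * eta (2 * (n - 1)) by omega⟩,
      ⟨by omega, Or.inl (by omega), show n < 2 * eta (2 * (n - 2)) by omega⟩, by omega, by omega, by omega⟩
  | _ => exact ht.elim

variable {t : Fam} {p f : ℕ} {L : Type w} [Group L] [Finite L] {G : Type u} [Group G] [Finite G]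

/-- **A coclique of three primes.** -/
theorem exists_coq (h : LS t p f L G) (hp2 : p ≠ 2) (hn : 5 ≤ rk t) : ∃ ρ : Finset ℕ, IsCoq G ρ ∧ 3 ≤ ρ.card := by
  have hq := h.q_three hp2
  obtain ⟨i, j, k, hi, hj, hk, hij, hik, hjk⟩ := three_big h.cla hn
  obtain ⟨r, Hr⟩ := exists_in h hq hi.1 hi.2.1
  obtain ⟨s, Hs⟩ := exists_in h hq hj.1 hj.2.1
  obtain ⟨z, Hz⟩ := exists_in h hq hk.1 hk.2.1
  have n1 := na_of_big h.cla hi hj hij
  have n2 := na_of_big h.cla hi hk hik
  have n3 := na_of_big h.cla hj hk hjk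
  have h1 := Hr.ne Hs hij
  have h2 := Hr.ne Hz hik
  have h3 := Hs.ne Hz hjk
  refine ⟨_, isCoq_three Hr.prime Hs.prime Hz.prime (Hr.dvd h) (Hs.dvd h) (Hz.dvd h)
    (fun hg => (h.adj_iff Hr Hs h1).1 hg n1) (fun hg => (h.adj_iff Hr Hz h2).1 hg n2)
    (fun hg => (h.adj_iff Hs Hz h3).1 hg n3), ?_⟩
  rw [Finset.card_insert_of_notMem, Finset.card_insert_of_notMem, Finset.card_singleton]
  · rw [Finset.mem_singleton]; exact h3
  · rw [Finset.mem_insert, Finset.mem_singleton, not_or]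
    exact ⟨h1, h2⟩

/-- an odd number `ttor` gives a prime nonadjacent to `2` -/
theorem two_of_odd (h : LS t p f L G) (hL : Fam.Is p f L t) (hp2 : p ≠ 2) {i : ℕ} (h3 : 3 ≤ i) (hm : mem t i)
    (ht : top t i) (ho : ¬ 2 ∣ ttor t (p ^ f) i) :
    ∃ r : ℕ, r.Prime ∧ r ≠ 2 ∧ r ∣ Nat.card G ∧ ¬ ∃ x : G, orderOf x = 2 * r := by
  obtain ⟨r, Hr⟩ := exists_in h (h.q_three hp2) h3 hm
  refine ⟨r, Hr.prime, Hr.ne_two, Hr.dvd h, ?_⟩
  rintro hx
  obtain ⟨y, hy⟩ := (h.ord _).1 hx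
  have h1 := (top_facts_all h.cla h.prime hL).ub r Hr.prime (Hr.not_dvd h.fpos) (by rw [Hr.cls_eq]; exact ht) y
    (by rw [hy]; exact Dvd.intro_left _ rfl)
  rw [Hr.cls_eq, hy] at h1
  exact ho ((Dvd.intro _ rfl).trans h1)

/-- **A prime nonadjacent to `2`.** -/
theorem exists_two (h : LS t p f L G) (hL : Fam.Is p f L t) (hp2 : p ≠ 2) (hn : 5 ≤ rk t) :
    ∃ r : ℕ, r.Prime ∧ r ≠ 2 ∧ r ∣ Nat.card G ∧ ¬ ∃ x : G, orderOf x = 2 * r := by
  have hqo := h.q_odd hp2
  by_cases hex : ∀ n, (t = .psp n ∨ t = .oodd n) → n % 2 = 1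
  · obtain ⟨i, j, hij⟩ := exists_pair h.cla hex hn
    have hcop := pair_coprime hij (by omega) hqo (h.q_three hp2)
    have key : ∀ {i j : ℕ}, PairOK t i j → ¬ 2 ∣ ttor t (p ^ f) i →
        ∃ r : ℕ, r.Prime ∧ r ≠ 2 ∧ r ∣ Nat.card G ∧ ¬ ∃ x : G, orderOf x = 2 * r := by
      intro i j hij ho
      obtain ⟨h3, hm, hi, -, -⟩ := pair_left hij hn
      exact two_of_odd h hL hp2 h3 hm (top_of_iso h.cla h3 hm hi) ho
    by_cases h1 : 2 ∣ ttor t (p ^ f) i
    · refine key (pair_symm hij) fun h2 => ?_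
      have h3 : 2 ∣ 1 := by
        rw [← hcop]
        exact Nat.dvd_gcd h1 h2
      omega
    · exact key hij h1
  · push Not at hex
    obtain ⟨n, ht, hn2⟩ := hex
    have hnr : rk t = n := by rcases ht with rfl | rfl <;> rfl
    have h5 : 5 ≤ n := by rw [← hnr]; exact hn
    have e0 := eta_two_mul' n
    have hqn : (p ^ f) ^ n % 4 = 1 := by
      obtain ⟨m, hm⟩ : ∃ m, n = 2 * m := ⟨n / 2, by omega⟩
      have h1 : (p ^ f) ^ 2 % 4 = 1 := by
        have h2 : (p ^ f) % 4 = 1 ∨ (p ^ f) % 4 = 3 := by omega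
        rcases h2 with h2 | h2 <;> rw [Nat.pow_mod, h2]
      rw [hm, pow_mul, Nat.pow_mod, h1, one_pow]
      rfl
    have hodd : ¬ 2 ∣ ((p ^ f) ^ n + 1) / Nat.gcd 2 (p ^ f - 1) := by
      rw [gcd_two_of_odd hqo]
      omega
    have h2n : 3 ≤ 2 * n := by omega
    rcases ht with rfl | rfl
    · refine two_of_odd h hL hp2 (i := 2 * n) h2n (show eta (2 * n) ≤ n by omega) (Or.inl rfl) ?_
      change ¬ 2 ∣ (if 2 * n = 2 * n then _ else _)
      rw [if_pos rfl]
      exact hodd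
    · refine two_of_odd h hL hp2 (i := 2 * n) h2n (show eta (2 * n) ≤ n by omega) (Or.inl rfl) ?_
      change ¬ 2 ∣ (if 2 * n = 2 * n then _ else _)
      rw [if_pos rfl]
      exact hodd

end Cfsg.Agent.R2.Spec.Asm
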